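import Cfsg.Agent.Lib.BSE.BasicA
import Cfsg.Agent.Lib.BSE.BasicB
import Cfsg.Agent.Lib.BSE.BasicC

/-!
# Bender's theorem, step 0: everything is in `BasicA`, `BasicB`, `BasicC`
-/
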